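import Groth.Agent.DvrDom.Basic
import Groth.Agent.S2651
import Groth.Agent.S2654
import Groth.Prelude.Def_EGA4b

/-! Discrete valuation rings essentially of finite type over an excellent ring. -/

set_option autoImplicit false
set_option maxHeartbeats 800000
set_option synthInstance.maxHeartbeats 200000
universe u

namespace DvrEftLib

open IsLocalRing

/-- A valuation over an excellent ring can be replaced by a discrete valuation essentially of finite
type, keeping finitely many prescribed positive elements positive. -/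
theorem exists_dvr_eft {Γ L : Type u} [CommRing Γ] [Field L] (hΓ : EGA4.IsExcellent Γ) [Algebra Γ L]
    (V₀ : ValuationSubring L) (hV₀ : ∀ a : Γ, algebraMap Γ L a ∈ V₀) (t : Finset L)
    (ht : ∀ y ∈ t, V₀.valuation y < 1) (hne : ∃ y ∈ t, y ≠ 0)
    (s : Finset L) (hs : Subfield.closure (Set.range (algebraMap Γ L) ∪ s) = ⊤) :
    ∃ (R : ValuationSubring L) (hR : ∀ a : Γ, algebraMap Γ L a ∈ R), IsDiscreteValuationRing R ∧
      (∀ y ∈ t, R.valuation y < 1) ∧
      (∀ a : Γ, R.valuation (algebraMap Γ L a) < 1 → V₀.valuation (algebraMap Γ L a) < 1) ∧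
      ((algebraMap Γ L).codRestrict R hR).EssFiniteType := by
  classical
  obtain ⟨y₀, hy₀, hy₀0⟩ := hne
  obtain ⟨x, hxt, hxmax⟩ := t.exists_max_image (fun y => V₀.valuation y) ⟨y₀, hy₀⟩
  have hx0 : x ≠ 0 := fun h => hy₀0 ((Valuation.zero_iff _).1
    (le_antisymm ((hxmax y₀ hy₀).trans (le_of_eq (by rw [h, map_zero]))) zero_le))
  let s' : Finset L := s.image (fun z => if z ∈ V₀ then z else z⁻¹) ∪ t.image (fun y => y / x) ∪ {x}
  let B : Subalgebra Γ L := Algebra.adjoin Γ (s' : Set L)
  have hBV : ∀ b ∈ B, b ∈ V₀ := by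
    intro b hb
    induction hb using Algebra.adjoin_induction with
    | mem y hy =>
      simp only [s', Finset.coe_union, Finset.coe_image, Finset.coe_singleton, Set.mem_union,
        Set.mem_image, Set.mem_singleton_iff] at hy
      rcases hy with (⟨z, _, rfl⟩ | ⟨z, hz, rfl⟩) | rfl
      · split_ifs with h
        · exact h
        · exact (V₀.mem_or_inv_mem z).resolve_left h
      · rw [← V₀.valuation_le_one_iff, map_div₀]
        exact div_le_one_of_le₀ (hxmax z hz) zero_le
      · exact (V₀.valuation_le_one_iff _).1 (ht _ hxt).le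
    | algebraMap r => exact hV₀ r
    | add a b _ _ ha hb => exact add_mem ha hb
    | mul a b _ _ ha hb => exact mul_mem ha hb
  have : Algebra.FiniteType Γ B := B.fg_iff_finiteType.mp (Subalgebra.fg_adjoin_finset s')
  -- Japanese property
  let B₁ := B ⧸ (⊥ : Ideal B)
  let j : B₁ →ₐ[Γ] L := Ideal.Quotient.liftₐ (⊥ : Ideal B) B.val (fun a ha => by
    rw [Ideal.mem_bot.1 ha, map_zero])
  letI : Algebra B₁ L := j.toRingHom.toAlgebra
  haveI : IsScalarTower Γ B₁ L := IsScalarTower.of_algebraMap_eq fun a => (j.commutes a).symm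
  have hjmk : ∀ b : B, algebraMap B₁ L (Ideal.Quotient.mk ⊥ b) = (b : L) := fun b => rfl
  have hjinj : Function.Injective (algebraMap B₁ L) := fun a b h => by
    obtain ⟨a, rfl⟩ := Ideal.Quotient.mk_surjective a
    obtain ⟨b, rfl⟩ := Ideal.Quotient.mk_surjective b
    rw [hjmk, hjmk] at h
    rw [Subtype.ext h]
  have hclB : Subfield.closure (B : Set L) = ⊤ := by
    rw [eq_top_iff, ← hs, Subfield.closure_le]
    rintro z (⟨a, rfl⟩ | hz)
    · exact Subfield.subset_closure (B.algebraMap_mem a)
    · have h1 : (if z ∈ V₀ then z else z⁻¹) ∈ B := Algebra.subset_adjoin (by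
        simp only [s', Finset.coe_union, Finset.coe_image, Set.mem_union, Set.mem_image]
        exact Or.inl (Or.inl ⟨z, hz, rfl⟩))
      have h2 := Subfield.subset_closure (s := (B : Set L)) h1
      split_ifs at h2 with h
      · exact h2
      · simpa using inv_mem h2
  haveI : IsDomain B₁ := hjinj.isDomain _
  letI : Algebra (FractionRing B₁) L := (IsFractionRing.lift hjinj).toAlgebra
  haveI : IsScalarTower B₁ (FractionRing B₁) L :=
    IsScalarTower.of_algebraMap_eq fun b => (IsFractionRing.lift_algebraMap hjinj b).symm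
  haveI : FiniteDimensional (FractionRing B₁) L := by
    refine Module.Finite.of_surjective (Algebra.linearMap (FractionRing B₁) L) fun z => ?_
    have hle : Subfield.closure (B : Set L) ≤ (algebraMap (FractionRing B₁) L).fieldRange := by
      rw [Subfield.closure_le]
      exact fun b hb => ⟨algebraMap B₁ _ (Ideal.Quotient.mk ⊥ ⟨b, hb⟩),
        (IsScalarTower.algebraMap_apply B₁ (FractionRing B₁) L _).symm.trans (hjmk _)⟩
    rw [hclB] at hle
    exact hle (Subfield.mem_top z)
  have hN2 : CAlg.IsN2 B₁ :=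
    (Groth.Agent.S2654.result B (let h := Groth.Agent.S2651.result Γ hΓ B; ⟨h.1, h.2.2.1, h.2.2.2⟩)).2 ⊥
  haveI : Module.Finite B₁ (integralClosure B₁ L) := hN2 L inferInstance
  let N := integralClosure B₁ L
  haveI : Algebra.FiniteType Γ B₁ := .of_surjective (Ideal.Quotient.mkₐ Γ (⊥ : Ideal B))
    Ideal.Quotient.mk_surjective
  haveI : Algebra.FiniteType Γ N := Algebra.FiniteType.trans (S := B₁) inferInstance inferInstance
  have hNV : ∀ z : N, (z : L) ∈ V₀ := fun z => by
    let f : B₁ →+* V₀ := RingHom.codRestrict (algebraMap B₁ L) V₀ fun b => by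
      obtain ⟨b, rfl⟩ := Ideal.Quotient.mk_surjective b
      rw [hjmk]; exact hBV _ b.2
    obtain ⟨p, hp, hpe⟩ := z.2
    obtain ⟨w, hw⟩ := IsIntegrallyClosed.isIntegral_iff.1
      (⟨p.map f, hp.map _, by rw [Polynomial.eval₂_map]; exact hpe⟩ : IsIntegral V₀ (z : L))
    exact hw ▸ w.2
  let N' : Subring L := N.toSubring
  have hBN : ∀ b ∈ B, b ∈ N' := fun b hb => N.algebraMap_mem (Ideal.Quotient.mk ⊥ ⟨b, hb⟩)
  haveI hNnoeth : IsNoetherianRing N' := by
    have := hΓ.1
    exact Algebra.FiniteType.isNoetherianRing Γ N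
  let incl : N' →+* V₀ :=
    { toFun := fun z => ⟨z, hNV z⟩
      map_one' := rfl, map_mul' := fun _ _ => rfl, map_zero' := rfl, map_add' := fun _ _ => rfl }
  let Q : Ideal N' := (maximalIdeal V₀).comap incl
  let xN : N' := ⟨x, hBN x (Algebra.subset_adjoin (by simp [s']))⟩
  have hxQ : Ideal.span {xN} ≤ Q :=
    (Ideal.span_singleton_le_iff_mem _).2 ((V₀.valuation_lt_one_iff (incl xN)).2 (ht x hxt))
  obtain ⟨P, hP, hPQ⟩ := Ideal.exists_minimalPrimes_le hxQ
  haveI : P.IsPrime := hP.1.1
  have hxP : xN ∈ P := hP.1.2 (Ideal.subset_span rfl)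
  let C : LocalSubring L := LocalSubring.ofPrime N' P
  haveI : IsNoetherianRing C.toSubring :=
    IsLocalization.isNoetherianRing (R := N') P.primeCompl C.toSubring hNnoeth
  have hNC : N' ≤ C.toSubring := LocalSubring.le_ofPrime N' P
  haveI : IsFractionRing N' L := DvrDomLib.isFractionRing_of_closure_eq_top _
    (eq_top_iff.2 (hclB ▸ Subfield.closure_mono hBN))
  haveI : IsFractionRing C.toSubring L := DvrDomLib.isFractionRing_of_closure_eq_top _
    (eq_top_iff.2 (hclB ▸ Subfield.closure_mono fun b hb => hNC (hBN b hb)))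
  haveI : IsIntegrallyClosed N' := (isIntegrallyClosed_iff L).2 fun {z} hz => by
    have : Algebra.IsIntegral B₁ N := inferInstance
    have hz' : IsIntegral N z := hz
    exact ⟨⟨z, isIntegral_trans (R := B₁) (A := N) z hz'⟩, rfl⟩
  haveI : IsIntegrallyClosed C.toSubring :=
    isIntegrallyClosed_of_isLocalization C.toSubring P.primeCompl P.primeCompl_le_nonZeroDivisors
  have hxm : algebraMap N' C.toSubring xN ∈ maximalIdeal C.toSubring :=
    (IsLocalization.AtPrime.to_map_mem_maximal_iff C.toSubring P xN).2 hxP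
  haveI : Ring.KrullDimLE 1 C.toSubring := by
    rw [Ring.KrullDimLE, Order.krullDimLE_iff]
    show ringKrullDim C.toSubring ≤ _
    rw [IsLocalization.AtPrime.ringKrullDim_eq_height (R := N') P C.toSubring]
    exact WithBot.coe_le_coe.mpr
      (Ideal.height_le_one_of_isPrincipal_of_mem_minimalPrimes (Ideal.span {xN}) P hP)
  have hm0 : maximalIdeal C.toSubring ≠ ⊥ := fun h => by
    rw [h, Ideal.mem_bot] at hxm
    exact hx0 (congrArg Subtype.val hxm)
  have hnf : ¬ IsField C.toSubring := fun h => hm0 (isField_iff_maximalIdeal_eq.1 h)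
  haveI : IsDiscreteValuationRing C.toSubring := by
    have htf : IsDiscreteValuationRing C.toSubring ↔ (IsIntegrallyClosed C.toSubring ∧
        ∃! J : Ideal C.toSubring, J ≠ ⊥ ∧ J.IsPrime) := (IsDiscreteValuationRing.TFAE C.toSubring hnf).out 0 3
    refine htf.2
      ⟨inferInstance, maximalIdeal C.toSubring, ⟨hm0, inferInstance⟩, ?_⟩
    rintro J ⟨hJ, hJp⟩
    exact eq_maximalIdeal (Ring.krullDimLE_one_iff_of_isPrime_bot.1 inferInstance J hJ hJp)
  let R : ValuationSubring L := ValuationSubring.ofSubring C.toSubring fun z => by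
    rcases ValuationRing.isInteger_or_isInteger C.toSubring z with ⟨w, hw⟩ | ⟨w, hw⟩
    · exact Or.inl (hw ▸ w.2)
    · exact Or.inr (hw ▸ w.2)
  let e : C.toSubring ≃+* R := RingEquiv.refl _
  have hR : ∀ a : Γ, algebraMap Γ L a ∈ R := fun a => hNC (hBN _ (B.algebraMap_mem a))
  have hlt : ∀ z : N', R.valuation (z : L) < 1 ↔ z ∈ P := fun z => by
    rw [← IsLocalization.AtPrime.to_map_mem_maximal_iff C.toSubring P z]
    exact (R.valuation_lt_one_iff ⟨(z : L), hNC z.2⟩).symm
  refine ⟨R, hR, inferInstanceAs (IsDiscreteValuationRing C.toSubring), fun y hy => ?_, fun a ha => ?_, ?_⟩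
  · have hyx : y / x ∈ N' := hBN _ (Algebra.subset_adjoin (by
      simp only [s', Finset.coe_union, Finset.coe_image, Set.mem_union, Set.mem_image]
      exact Or.inl (Or.inr ⟨y, hy, rfl⟩)))
    have := (hlt (⟨_, hyx⟩ * xN)).2 (P.mul_mem_left _ hxP)
    rwa [show ((⟨_, hyx⟩ * xN : N') : L) = y by
      show y / x * x = y
      exact div_mul_cancel₀ y hx0] at this
  · let z : N' := ⟨algebraMap Γ L a, hBN _ (B.algebraMap_mem a)⟩
    exact (V₀.valuation_lt_one_iff (incl z)).1 (hPQ ((hlt z).1 ha))
  · letI : Algebra Γ N' := inferInstanceAs (Algebra Γ N)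
    letI : Algebra Γ C.toSubring :=
      ((algebraMap N' C.toSubring).comp (algebraMap Γ N')).toAlgebra
    haveI : IsScalarTower Γ N' C.toSubring := IsScalarTower.of_algebraMap_eq fun _ => rfl
    haveI : Algebra.FiniteType Γ N' := inferInstanceAs (Algebra.FiniteType Γ N)
    haveI : Algebra.EssFiniteType N' C.toSubring :=
      Algebra.EssFiniteType.of_isLocalization _ P.primeCompl
    have h : Algebra.EssFiniteType Γ C.toSubring := Algebra.EssFiniteType.comp Γ N' C.toSubring
    let g : Γ →+* C.toSubring := algebraMap Γ C.toSubring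
    have hg : g.EssFiniteType := h
    have hcomp : (algebraMap Γ L).codRestrict R hR = e.toRingHom.comp g := by
      refine RingHom.ext fun a => Subtype.ext ?_
      exact (IsScalarTower.algebraMap_apply Γ B₁ L a)
    rw [hcomp]
    exact RingHom.EssFiniteType.stableUnderComposition _ _ hg
      (RingHom.FiniteType.essFiniteType (RingHom.FiniteType.of_surjective _ e.surjective))

end DvrEftLib
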