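import Groth.Agent.DvrEftLib.Basic
import Groth.Agent.DvrDom.ValLifts
import Mathlib.AlgebraicGeometry.ValuativeCriterion

/-! Valuative criteria tested on discrete valuation rings essentially of finite type over an excellent base. -/

set_option autoImplicit false
set_option maxHeartbeats 800000
universe u

open CategoryTheory Limits AlgebraicGeometry

namespace DvrEftLib

variable {S X Y : Scheme.{u}}

/-- A map from an affine scheme is essentially of finite type over some affine open of `S`. -/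
def IsEft (g : Y ⟶ S) {R : Type u} [CommRing R] (y : Spec (CommRingCat.of R) ⟶ Y) : Prop :=
  ∃ (U : S.affineOpens) (φ : Γ(S, U.1) ⟶ CommRingCat.of R),
    Spec.map φ ≫ U.2.fromSpec = y ≫ g ∧ φ.hom.EssFiniteType

variable (hS : ∀ U : S.affineOpens, EGA4.IsExcellent Γ(S, U.1))

include hS in
/-- Around every point there is an affine open with excellent ring, inside a given one. -/
theorem exists_affine (g : Y ⟶ S) [LocallyOfFiniteType g] (y : Y) (O : Y.Opens) (hy : y ∈ O) :
    ∃ U : Y.Opens, IsAffineOpen U ∧ y ∈ U ∧ U ≤ O ∧ EGA4.IsExcellent Γ(Y, U) ∧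
      ∀ (hU : IsAffineOpen U) {R : Type u} [CommRing R] (γ : Γ(Y, U) ⟶ CommRingCat.of R),
        γ.hom.EssFiniteType → IsEft g (Spec.map γ ≫ hU.fromSpec) := by
  obtain ⟨_, ⟨V, hV, rfl⟩, hyV, -⟩ :=
    S.isBasis_affineOpens.exists_subset_of_mem_open (Set.mem_univ (g y)) isOpen_univ
  have hV : IsAffineOpen V := hV
  obtain ⟨_, ⟨U, hU, rfl⟩, hyU, hUle⟩ := Y.isBasis_affineOpens.exists_subset_of_mem_open
    (show y ∈ ((O ⊓ g ⁻¹ᵁ V : Y.Opens) : Set Y) from ⟨hy, hyV⟩) (O ⊓ g ⁻¹ᵁ V).isOpen
  have hU : IsAffineOpen U := hU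
  have hle : U ≤ g ⁻¹ᵁ V := fun z hz => (hUle hz).2
  have hft : (g.appLE V U hle).hom.FiniteType :=
    HasRingHomProperty.appLE (P := @LocallyOfFiniteType) g inferInstance ⟨V, hV⟩ ⟨U, hU⟩ hle
  refine ⟨U, hU, hyU, fun z hz => (hUle hz).1, ?_, fun hU' R _ γ hγ => ?_⟩
  · letI := (g.appLE V U hle).hom.toAlgebra
    haveI : Algebra.FiniteType Γ(S, V) Γ(Y, U) := hft
    exact Groth.Agent.S2651.result Γ(S, V) (hS ⟨V, hV⟩) Γ(Y, U)
  · refine ⟨⟨V, hV⟩, g.appLE V U hle ≫ γ, ?_, ?_⟩
    · rw [Spec.map_comp, Category.assoc, Category.assoc,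
        ← IsAffineOpen.SpecMap_appLE_fromSpec g hV hU' hle]
    · rw [CommRingCat.hom_comp]
      exact RingHom.EssFiniteType.stableUnderComposition _ _ (RingHom.FiniteType.essFiniteType hft) hγ

include hS in
theorem isLocallyNoetherian_base : IsLocallyNoetherian S := ⟨fun U => (hS U).1⟩

open DvrDomLib IsLocalRing in
include hS in
/-- Existence of lifts for all valuation rings from the essentially-of-finite-type discrete ones. -/
theorem existence_of_eft (f : X ⟶ Y) (g : Y ⟶ S) [QuasiCompact f] [LocallyOfFiniteType f]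
    [LocallyOfFiniteType g]
    (H : ∀ sq : ValuativeCommSq f, IsDiscreteValuationRing sq.R → IsEft g sq.i₂ → sq.commSq.HasLift) :
    ValuativeCriterion.Existence f := by
  classical
  have key : ∀ (u : X) (V : ValuationSubring (X.residueField u)) (y : Spec (CommRingCat.of V) ⟶ Y),
      Spec.map (CommRingCat.ofHom V.subtype) ≫ y = X.fromSpecResidueField u ≫ f →
      ∃ l : Spec (CommRingCat.of V) ⟶ X, l ≫ f = y ∧
        Spec.map (CommRingCat.ofHom V.subtype) ≫ l = X.fromSpecResidueField u := by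
    intro u V y hy
    obtain ⟨U, hU, hyU, -, hexc, heft⟩ := exists_affine hS g (y (closedPoint V)) ⊤ trivial
    have hfu : f u ∈ U := by
      let η : Spec (X.residueField u) := closedPoint (X.residueField u)
      have h1 : (Spec.map (CommRingCat.ofHom V.subtype) ≫ y) η = f u := by
        rw [hy, Scheme.Hom.comp_apply, Scheme.fromSpecResidueField_apply]
      rw [← h1, Scheme.Hom.comp_apply]
      exact ((specializes_closedPoint (R := V) _).map y.continuous).mem_open U.isOpen hyU
    obtain ⟨γ, hγ⟩ := exists_specMap_fromSpec y hU hyU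
    let ψ := resEval f u U hfu
    have hγψ : γ ≫ CommRingCat.ofHom V.subtype = ψ := by
      refine resEval_eq_of_specMap _ _ hU hfu _ ?_
      rw [Spec.map_comp, Category.assoc, hγ]
      exact hy
    have hc : IsCompact ((f ⁻¹ᵁ U : X.Opens) : Set X) :=
      QuasiCompact.isCompact_preimage (f := f) (U : Set Y) U.isOpen hU.isCompact
    obtain ⟨𝒲, h𝒲, hcov⟩ := isCompact_iff_finite_and_eq_biUnion_affineOpens.mp hc
    have hle : ∀ W ∈ 𝒲, (W : X.Opens) ≤ f ⁻¹ᵁ U := fun W hW => by
      rw [hcov]; exact le_iSup₂ (f := fun i (_ : i ∈ 𝒲) => (i : X.Opens)) W hW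
    by_cases hgood : ∃ W ∈ 𝒲, ∃ hW : (𝟙 X : X ⟶ X) u ∈ (W : X.Opens),
        ∀ a, (resEval (𝟙 X) u W hW).hom a ∈ V
    · obtain ⟨W, hW𝒲, hW, hmem⟩ := hgood
      let δ : Γ(X, W) ⟶ CommRingCat.of V :=
        CommRingCat.ofHom ((resEval (𝟙 X) u W hW).hom.codRestrict V hmem)
      have hδ : δ ≫ CommRingCat.ofHom V.subtype = resEval (𝟙 X) u W hW := rfl
      refine ⟨Spec.map δ ≫ W.2.fromSpec, ?_, ?_⟩
      · rw [Category.assoc, ← IsAffineOpen.SpecMap_appLE_fromSpec f hU W.2 (hle W hW𝒲),
          ← Spec.map_comp_assoc, ← hγ]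
        congr 2
        apply hom_ext_valuationSubring
        rw [Category.assoc, hδ, appLE_resEval (𝟙 X) f u hU W.2, hγψ]
        simp only [Category.id_comp]
        rfl
      · rw [← Category.assoc, ← Spec.map_comp, hδ]
        simpa using specMap_resEval (𝟙 X) u W.2 hW
    push Not at hgood
    exfalso
    choose w hw using hgood
    let val : X.affineOpens → X.residueField u := fun W =>
      if hW : W ∈ 𝒲 ∧ (𝟙 X : X ⟶ X) u ∈ (W : X.Opens) then
        ((resEval (𝟙 X) u W hW.2).hom (w W hW.1 hW.2))⁻¹ else 0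
    have hval : ∀ (W : X.affineOpens) (hW : W ∈ 𝒲) (hWu : (𝟙 X : X ⟶ X) u ∈ (W : X.Opens)),
        V.valuation (val W) < 1 ∧ val W ≠ 0 ∧
          val W = ((resEval (𝟙 X) u W hWu).hom (w W hW hWu))⁻¹ := by
      intro W hW hWu
      have hwV := hw W hW hWu
      have hne : (resEval (𝟙 X) u W hWu).hom (w W hW hWu) ≠ 0 := fun h0 => hwV (h0 ▸ V.zero_mem)
      have he : val W = ((resEval (𝟙 X) u W hWu).hom (w W hW hWu))⁻¹ := dif_pos ⟨hW, hWu⟩
      refine ⟨?_, by rw [he]; exact inv_ne_zero hne, he⟩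
      rw [he, ← V.mem_nonunits_iff]
      exact (V.inv_mem_nonunits_iff).mpr (Or.inr hwV)
    let t := h𝒲.toFinset.image val
    have ht : ∀ z ∈ t, V.valuation z < 1 := by
      intro z hz
      obtain ⟨W, hW, rfl⟩ := Finset.mem_image.1 hz
      by_cases hWu : (𝟙 X : X ⟶ X) u ∈ (W : X.Opens)
      · exact (hval W (h𝒲.mem_toFinset.1 hW) hWu).1
      · rw [show val W = 0 from dif_neg fun h => hWu h.2, map_zero]; exact zero_lt_one
    obtain ⟨W₀, hW₀, hW₀u⟩ : ∃ W ∈ 𝒲, (𝟙 X : X ⟶ X) u ∈ (W : X.Opens) := by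
      have hu : u ∈ f ⁻¹ᵁ U := hfu
      rw [hcov] at hu
      simp only [TopologicalSpace.Opens.mem_iSup, exists_prop] at hu
      exact hu
    obtain ⟨s, hs⟩ := exists_closure_resEval f u hU hfu
    letI := ψ.hom.toAlgebra
    obtain ⟨R, hmem, hR, hRt, -, hess⟩ := exists_dvr_eft hexc V
      (fun a => by
        show ψ.hom a ∈ V
        rw [← hγψ]
        exact (γ a).2) t ht
      ⟨val W₀, Finset.mem_image_of_mem _ (h𝒲.mem_toFinset.2 hW₀), (hval W₀ hW₀ hW₀u).2.1⟩ s hs
    let γR : Γ(Y, U) ⟶ CommRingCat.of R := CommRingCat.ofHom (ψ.hom.codRestrict R hmem)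
    let sq : ValuativeCommSq f :=
      { R := R, K := X.residueField u, i₁ := X.fromSpecResidueField u
        i₂ := Spec.map γR ≫ hU.fromSpec
        commSq := ⟨by
          rw [← Category.assoc]
          change _ = (Spec.map (CommRingCat.ofHom R.subtype) ≫ Spec.map γR) ≫ hU.fromSpec
          rw [← Spec.map_comp]
          exact (specMap_resEval f u hU hfu).symm⟩ }
    obtain ⟨⟨l, hl₁, hl₂⟩⟩ := H sq hR (heft hU γR hess)
    have hx' : l (closedPoint R) ∈ f ⁻¹ᵁ U := by
      show f (l (closedPoint R)) ∈ U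
      erw [← Scheme.Hom.comp_apply, hl₂]
      exact specMap_fromSpec_apply_mem hU γR _
    rw [hcov] at hx'
    obtain ⟨W, hW, hxW⟩ : ∃ W ∈ 𝒲, l (closedPoint R) ∈ (W : X.Opens) := by
      simpa only [TopologicalSpace.Opens.mem_iSup, exists_prop] using hx'
    obtain ⟨δ, hδ⟩ := exists_specMap_fromSpec l W.2 hxW
    have hl₁' : Spec.map (CommRingCat.ofHom R.subtype) ≫ l = X.fromSpecResidueField u := hl₁
    have hWu : (𝟙 X : X ⟶ X) u ∈ (W : X.Opens) := by
      let η : Spec (X.residueField u) := closedPoint (X.residueField u)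
      have h1 : (Spec.map (CommRingCat.ofHom R.subtype) ≫ l) η = u := by
        rw [hl₁', Scheme.fromSpecResidueField_apply]
      show u ∈ (W : X.Opens)
      rw [← h1, Scheme.Hom.comp_apply]
      exact ((specializes_closedPoint (R := R) _).map l.continuous).mem_open (W : X.Opens).isOpen hxW
    have hδ' : δ ≫ CommRingCat.ofHom R.subtype = resEval (𝟙 X) u W hWu := by
      refine resEval_eq_of_specMap _ _ W.2 hWu _ ?_
      rw [Spec.map_comp, Category.assoc, hδ, hl₁', Category.comp_id]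
    have hwR : (resEval (𝟙 X) u W hWu).hom (w W hW hWu) ∈ R := by rw [← hδ']; exact (δ _).2
    have h1 := hRt (val W) (Finset.mem_image_of_mem _ (h𝒲.mem_toFinset.2 hW))
    rw [(hval W hW hWu).2.2] at h1
    have hne : (resEval (𝟙 X) u W hWu).hom (w W hW hWu) ≠ 0 := fun h0 => hw W hW hWu (h0 ▸ V.zero_mem)
    exact ((R.inv_mem_nonunits_iff.mp (R.mem_nonunits_iff.mpr h1)).resolve_left hne) hwR
  -- descend to the residue field
  intro sq
  obtain ⟨R, K, i₁, i₂, ⟨w⟩⟩ := sq
  let p := i₁ (closedPoint K)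
  let φ : X.residueField p ⟶ CommRingCat.of K := X.descResidueField (Scheme.stalkClosedPointTo i₁)
  have hi₁ : Spec.map φ ≫ X.fromSpecResidueField p = i₁ :=
    X.descResidueField_stalkClosedPointTo_fromSpecResidueField K i₁
  let R₀ : ValuationSubring (X.residueField p) :=
    ValuationSubring.ofSubring ((algebraMap R K).range.comap φ.hom) fun z => by
      rcases ValuationRing.isInteger_or_isInteger R (φ.hom z) with ⟨r, hr⟩ | ⟨r, hr⟩
      · exact Or.inl ⟨r, hr⟩
      · refine Or.inr ⟨r, ?_⟩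
        rw [map_inv₀]
        exact hr
  let eR : R ≃+* (algebraMap R K).range :=
    RingEquiv.ofBijective (algebraMap R K).rangeRestrict
      ⟨fun a b h => IsFractionRing.injective R K (congrArg Subtype.val h),
        (algebraMap R K).rangeRestrict_surjective⟩
  let j : R₀ →+* R := eR.symm.toRingHom.comp
    ((φ.hom.comp R₀.subtype).codRestrict (algebraMap R K).range fun z => z.2)
  have hj : (algebraMap R K).comp j = φ.hom.comp R₀.subtype := RingHom.ext fun z => by
    show ((eR (eR.symm _) : (algebraMap R K).range) : K) = _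
    rw [RingEquiv.apply_symm_apply]; rfl
  obtain ⟨U, hU, hyU, -, -, -⟩ := exists_affine hS g (i₂ (closedPoint R)) ⊤ trivial
  obtain ⟨γ, hγ⟩ := exists_specMap_fromSpec i₂ hU hyU
  have hp : f p ∈ U := by
    have h1 : (i₁ ≫ f) (closedPoint K) = f p := Scheme.Hom.comp_apply ..
    rw [← h1, w]
    erw [Scheme.Hom.comp_apply]
    exact ((specializes_closedPoint (R := R) _).map i₂.continuous).mem_open U.isOpen hyU
  have hcompat : γ ≫ CommRingCat.ofHom (algebraMap R K) = resEval f p U hp ≫ φ := by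
    apply Spec.map_injective
    rw [← cancel_mono hU.fromSpec]
    simp only [Spec.map_comp, Category.assoc]
    rw [hγ, specMap_resEval f p hU hp, ← Category.assoc (Spec.map φ), hi₁]
    exact w.symm
  let γ₀ : Γ(Y, U) ⟶ CommRingCat.of R₀ := CommRingCat.ofHom ((resEval f p U hp).hom.codRestrict R₀ fun a =>
    ⟨γ a, congr($hcompat a)⟩)
  obtain ⟨l, hl₁, hl₂⟩ := key p R₀ (Spec.map γ₀ ≫ hU.fromSpec) (by
    rw [← Category.assoc, ← Spec.map_comp]
    exact specMap_resEval f p hU hp)
  refine ⟨⟨⟨Spec.map (CommRingCat.ofHom j) ≫ l, ?_, ?_⟩⟩⟩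
  · rw [← Category.assoc, ← Spec.map_comp,
      show CommRingCat.ofHom j ≫ CommRingCat.ofHom (algebraMap R K) = CommRingCat.ofHom R₀.subtype ≫ φ from
        CommRingCat.hom_ext hj, Spec.map_comp, Category.assoc, hl₂, hi₁]
  · have hjγ : γ₀ ≫ CommRingCat.ofHom j = γ := CommRingCat.hom_ext (RingHom.ext fun a =>
      IsFractionRing.injective R K ((DFunLike.congr_fun hj (γ₀ a)).trans (congr($hcompat a)).symm))
    rw [Category.assoc, hl₁, ← Category.assoc, ← Spec.map_comp, hjγ]
    exact hγ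

open DvrDomLib IsLocalRing in
include hS in
/-- Separatedness from uniqueness for the essentially-of-finite-type discrete valuation rings. -/
theorem isSeparated_of_eft (f : X ⟶ Y) (g : Y ⟶ S) [LocallyOfFiniteType f] [LocallyOfFiniteType g]
    (H : ∀ sq : ValuativeCommSq f, IsDiscreteValuationRing sq.R → IsEft g sq.i₂ →
      Subsingleton sq.commSq.LiftStruct) : IsSeparated f := by
  classical
  haveI := isLocallyNoetherian_base hS
  haveI : IsLocallyNoetherian Y := LocallyOfFiniteType.isLocallyNoetherian g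
  haveI : IsLocallyNoetherian X := LocallyOfFiniteType.isLocallyNoetherian f
  haveI : IsLocallyNoetherian (pullback f f) :=
    LocallyOfFiniteType.isLocallyNoetherian (pullback.fst f f)
  haveI : QuasiCompact (pullback.diagonal f) := QuasiSeparated.quasiCompact_diagonal
  refine ⟨IsClosedImmersion.of_isPreimmersion _ (isClosed_of_closure_subset fun r hr => ?_)⟩
  obtain ⟨x, hx⟩ := exists_specializes_of_mem_closure_range _ r hr
  set Δ := pullback.diagonal f
  by_cases hne : r = Δ x
  · exact ⟨x, hne.symm⟩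
  set q := pullback.fst f f ≫ f
  obtain ⟨U, hU, hrU, -, -, heft⟩ := exists_affine hS g (q r) ⊤ trivial
  obtain ⟨W, hW, hrW, hWle, hexc, -⟩ := exists_affine hS (q ≫ g) r (q ⁻¹ᵁ U) hrU
  obtain ⟨V₀, y₀, -, hcl₀, hgen₀⟩ := exists_dvr_through_specialization Δ x r hx hne
  have hrW₀ : y₀ (closedPoint V₀) ∈ W := by rw [hcl₀]; exact hrW
  obtain ⟨γ₀, hγ₀⟩ := exists_specMap_fromSpec y₀ hW hrW₀
  have hxW : Δ x ∈ W := hx.mem_open W.isOpen hrW
  let ψ := resEval Δ x W hxW
  have hγψ : γ₀ ≫ CommRingCat.ofHom V₀.subtype = ψ := by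
    refine resEval_eq_of_specMap _ _ hW hxW _ ?_
    rw [Spec.map_comp, Category.assoc, hγ₀]
    exact hgen₀
  letI := ψ.hom.toAlgebra
  have hV₀ : ∀ a, ψ.hom a ∈ V₀ := fun a => by rw [← hγψ]; exact (γ₀ a).2
  let P : Ideal Γ(pullback f f, W) := (maximalIdeal V₀).comap γ₀.hom
  have hP : ∀ a, a ∈ P ↔ V₀.valuation (ψ.hom a) < 1 := fun a => by
    rw [← hγψ]
    exact V₀.valuation_lt_one_iff (γ₀ a)
  haveI : IsNoetherianRing Γ(pullback f f, W) := hexc.1
  obtain ⟨gen, hgen⟩ := IsNoetherian.noetherian P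
  have hgenP : ∀ a ∈ gen, a ∈ P := fun a ha => hgen ▸ Submodule.subset_span ha
  obtain ⟨s, hs⟩ := exists_closure_resEval Δ x hW hxW
  have hnz : ∃ z ∈ gen.image ψ.hom, z ≠ 0 := by
    by_contra hall
    have hall' : ∀ z ∈ gen, ψ.hom z = 0 := fun z hz =>
      by_contra fun h => hall ⟨_, Finset.mem_image_of_mem _ hz, h⟩
    have hPker : ∀ a ∈ P, ψ.hom a = 0 := fun a ha => by
      rw [← hgen] at ha
      induction ha using Submodule.span_induction with
      | mem z hz => exact hall' z hz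
      | zero => exact map_zero _
      | add a b _ _ ha hb => rw [map_add, ha, hb, add_zero]
      | smul c a _ ha => rw [smul_eq_mul, map_mul, ha, mul_zero]
    refine hne ?_
    let η : Spec (X.residueField x) := closedPoint (X.residueField x)
    rw [← hcl₀, ← hγ₀]
    have h1 : (Spec.map ψ ≫ hW.fromSpec) η = Δ x := by
      rw [specMap_resEval, Scheme.Hom.comp_apply, Scheme.fromSpecResidueField_apply]
    rw [← h1]
    erw [Scheme.Hom.comp_apply, Scheme.Hom.comp_apply]
    refine congrArg hW.fromSpec (PrimeSpectrum.ext ?_)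
    ext a
    show a ∈ P ↔ ψ.hom a ∈ maximalIdeal (X.residueField x)
    rw [mem_maximalIdeal, mem_nonunits_iff, isUnit_iff_ne_zero, not_not]
    exact ⟨hPker a, fun h => (hP a).2 (by rw [h, map_zero]; exact zero_lt_one)⟩
  obtain ⟨R, hmem, hR, hRt, hRV, hess⟩ := exists_dvr_eft hexc V₀ hV₀ (gen.image ψ.hom)
    (fun z hz => by obtain ⟨a, ha, rfl⟩ := Finset.mem_image.1 hz; exact (hP a).1 (hgenP a ha))
    hnz s hs
  let γR : Γ(pullback f f, W) ⟶ CommRingCat.of R := CommRingCat.ofHom (ψ.hom.codRestrict R hmem)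
  let y := Spec.map γR ≫ hW.fromSpec
  have hgenR : Spec.map (CommRingCat.ofHom R.subtype) ≫ y = X.fromSpecResidueField x ≫ Δ := by
    rw [← Category.assoc, ← Spec.map_comp]
    exact specMap_resEval Δ x hW hxW
  have hcl : y (closedPoint R) = r := by
    rw [← hcl₀, ← hγ₀]
    show hW.fromSpec _ = hW.fromSpec _
    refine congrArg hW.fromSpec (PrimeSpectrum.ext ?_)
    ext a
    show γR a ∈ maximalIdeal R ↔ a ∈ P
    refine (R.valuation_lt_one_iff (γR a)).trans ⟨fun h => (hP a).2 (hRV a h), fun ha => ?_⟩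
    rw [← hgen] at ha
    induction ha using Submodule.span_induction with
    | mem z hz => exact hRt _ (Finset.mem_image_of_mem _ hz)
    | zero => exact (R.valuation_lt_one_iff (γR 0)).1 (by simp)
    | add a b _ _ ha hb =>
      refine (R.valuation_lt_one_iff (γR (a + b))).1 ?_
      rw [map_add]
      exact add_mem ((R.valuation_lt_one_iff _).2 ha) ((R.valuation_lt_one_iff _).2 hb)
    | smul c a _ ha =>
      refine (R.valuation_lt_one_iff (γR (c • a))).1 ?_
      rw [smul_eq_mul, map_mul]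
      exact Ideal.mul_mem_left _ _ ((R.valuation_lt_one_iff _).2 ha)
  have hft : (q.appLE U W hWle).hom.FiniteType :=
    HasRingHomProperty.appLE (P := @LocallyOfFiniteType) q inferInstance ⟨U, hU⟩ ⟨W, hW⟩ hWle
  have heq : Spec.map (q.appLE U W hWle ≫ γR) ≫ hU.fromSpec = y ≫ q := by
    rw [Spec.map_comp, Category.assoc, IsAffineOpen.SpecMap_appLE_fromSpec q hU hW hWle, Category.assoc]
  have heftq : IsEft g (y ≫ q) := by
    rw [← heq]
    refine heft hU _ ?_
    rw [CommRingCat.hom_comp]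
    exact RingHom.EssFiniteType.stableUnderComposition _ _ (RingHom.FiniteType.essFiniteType hft) hess
  let sq : ValuativeCommSq f :=
    { R := R, K := X.residueField x, i₁ := X.fromSpecResidueField x, i₂ := y ≫ q
      commSq := ⟨by
        change _ = Spec.map (CommRingCat.ofHom R.subtype) ≫ y ≫ q
        rw [← Category.assoc, hgenR, Category.assoc, pullback.diagonal_fst_assoc]⟩ }
  have hsub := H sq hR heftq
  have h12 : y ≫ pullback.fst f f = y ≫ pullback.snd f f := congrArg CommSq.LiftStruct.l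
    (Subsingleton.elim
      (⟨y ≫ pullback.fst f f, by
        show Spec.map (CommRingCat.ofHom R.subtype) ≫ _ = X.fromSpecResidueField x
        rw [← Category.assoc, hgenR, Category.assoc, pullback.diagonal_fst, Category.comp_id],
        Category.assoc _ _ _⟩ : sq.commSq.LiftStruct)
      ⟨y ≫ pullback.snd f f, by
        show Spec.map (CommRingCat.ofHom R.subtype) ≫ _ = X.fromSpecResidueField x
        rw [← Category.assoc, hgenR, Category.assoc, pullback.diagonal_snd, Category.comp_id], by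
        show (y ≫ pullback.snd f f) ≫ f = y ≫ pullback.fst f f ≫ f
        rw [Category.assoc, pullback.condition]⟩)
  refine ⟨(y ≫ pullback.fst f f) (closedPoint R), ?_⟩
  rw [← hcl]
  have hy : (y ≫ pullback.fst f f) ≫ Δ = y := by
    apply pullback.hom_ext
    · simp [Δ]
    · simpa [Δ] using h12
  erw [← Scheme.Hom.comp_apply, hy]

end DvrEftLib
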